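import Groth.Agent.DCohLib.Ghost

/-!
# Vanishing of morphisms by dévissage on the cohomology of source and target
-/

set_option autoImplicit false
set_option linter.style.haveILetI false

universe w v u

open CategoryTheory CategoryTheory.Limits Pretriangulated

noncomputable section

namespace Groth.Agent.InjDimLib

variable {C : Type u} [Category.{v} C] [Abelian C] [HasDerivedCategory.{w} C]

open DerivedCategory

theorem isZero_of_isGE_of_isLE_lt (K : DerivedCategory C) (a b : ℤ) (h : b < a) [K.IsGE a] [K.IsLE b] :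
    IsZero K :=
  (IsZero.iff_id_eq_zero K).2 ((TStructure.t (C := C)).zero (𝟙 K) b a h)

/-- Dévissage on the source. -/
theorem eq_zero_of_src {Y : DerivedCategory C} : ∀ (n : ℕ) (a : ℤ) (K : DerivedCategory C) [K.IsGE a]
    [K.IsLE (a + n - 1)],
    (∀ (i : ℤ) (A : C), a ≤ i → i ≤ a + n - 1 → (A ≅ (homologyFunctor C i).obj K) →
      ∀ g : (singleFunctor C i).obj A ⟶ Y, g = 0) → ∀ f : K ⟶ Y, f = 0 := by
  intro n
  induction n with
  | zero =>
    intro a K _ _ _ f
    exact (isZero_of_isGE_of_isLE_lt K a (a + (0 : ℕ) - 1) (by omega)).eq_of_src _ _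
  | succ n ih =>
    intro a K _ _ h f
    let t := TStructure.t (C := C)
    let b : ℤ := a + n
    have hT := t.triangleLTGE_distinguished b K
    haveI : IsLE ((t.truncLT b).obj K) (a + n - 1) := t.isLE_truncLT_obj K b (a + n - 1) (by omega)
    haveI : IsGE ((t.truncLT b).obj K) a := (isGE_iff _ _).2 fun i hi => by
      have h1 := DCohLib.isIso_homology_truncLTι K b i (by omega)
      exact (isZero_of_isGE K a i hi).of_iso
        (@asIso _ _ _ _ ((homologyFunctor C i).map ((t.truncLTι b).app K)) h1)
    have h0 : (t.truncLTι b).app K ≫ f = 0 := by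
      refine ih a ((t.truncLT b).obj K) (fun i A hi hi' e g => ?_) _
      have h1 := DCohLib.isIso_homology_truncLTι K b i (by omega)
      exact h i A hi (by omega)
        (e ≪≫ @asIso _ _ _ _ ((homologyFunctor C i).map ((t.truncLTι b).app K)) h1) g
    obtain ⟨g, hg⟩ := Triangle.yoneda_exact₂ _ hT f h0
    haveI hR1 : IsGE ((t.truncGE b).obj K) b := inferInstanceAs (t.IsGE ((t.truncGE b).obj K) b)
    haveI hR2 : IsLE ((t.truncGE b).obj K) b := (isLE_iff _ _).2 fun i hi => by
      have h1 := DCohLib.isIso_homology_truncGEπ K b i (by omega)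
      exact (isZero_of_isLE K (a + (n + 1 : ℕ) - 1) i (by omega)).of_iso
        (@asIso _ _ _ _ ((homologyFunctor C i).map ((t.truncGEπ b).app K)) h1).symm
    obtain ⟨A, ⟨e⟩⟩ := exists_iso_singleFunctor_obj_of_isGE_of_isLE ((t.truncGE b).obj K) b
    have h1 := DCohLib.isIso_homology_truncGEπ K b b le_rfl
    have eA : A ≅ (homologyFunctor C b).obj K :=
      ((singleFunctorCompHomologyFunctorIso C b).app A).symm ≪≫ (homologyFunctor C b).mapIso e.symm ≪≫
        (@asIso _ _ _ _ ((homologyFunctor C b).map ((t.truncGEπ b).app K)) h1).symm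
    have hg0 : ∀ g' : (t.truncGE b).obj K ⟶ Y, g' = 0 := fun g' => by
      rw [← cancel_epi e.inv, comp_zero]
      exact h b A (by omega) (by omega) eA _
    rw [hg, show g = 0 from hg0 g]
    exact comp_zero

/-- Dévissage on the target. -/
theorem eq_zero_of_tgt {X : DerivedCategory C} : ∀ (n : ℕ) (a : ℤ) (L : DerivedCategory C) [L.IsGE a]
    [L.IsLE (a + n - 1)],
    (∀ (i : ℤ) (A : C), a ≤ i → i ≤ a + n - 1 → (A ≅ (homologyFunctor C i).obj L) →
      ∀ g : X ⟶ (singleFunctor C i).obj A, g = 0) → ∀ f : X ⟶ L, f = 0 := by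
  intro n
  induction n with
  | zero =>
    intro a L _ _ _ f
    exact (isZero_of_isGE_of_isLE_lt L a (a + (0 : ℕ) - 1) (by omega)).eq_of_tgt _ _
  | succ n ih =>
    intro a L _ _ h f
    let t := TStructure.t (C := C)
    let b : ℤ := a + n
    have hT := t.triangleLTGE_distinguished b L
    haveI hR1 : IsGE ((t.truncGE b).obj L) b := inferInstanceAs (t.IsGE ((t.truncGE b).obj L) b)
    haveI hR2 : IsLE ((t.truncGE b).obj L) b := (isLE_iff _ _).2 fun i hi => by
      have h1 := DCohLib.isIso_homology_truncGEπ L b i (by omega)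
      exact (isZero_of_isLE L (a + (n + 1 : ℕ) - 1) i (by omega)).of_iso
        (@asIso _ _ _ _ ((homologyFunctor C i).map ((t.truncGEπ b).app L)) h1).symm
    obtain ⟨A, ⟨e⟩⟩ := exists_iso_singleFunctor_obj_of_isGE_of_isLE ((t.truncGE b).obj L) b
    have h1 := DCohLib.isIso_homology_truncGEπ L b b le_rfl
    have eA : A ≅ (homologyFunctor C b).obj L :=
      ((singleFunctorCompHomologyFunctorIso C b).app A).symm ≪≫ (homologyFunctor C b).mapIso e.symm ≪≫
        (@asIso _ _ _ _ ((homologyFunctor C b).map ((t.truncGEπ b).app L)) h1).symm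
    have h0 : f ≫ (t.truncGEπ b).app L = 0 := by
      rw [← cancel_mono e.hom, zero_comp]
      exact h b A (by omega) (by omega) eA _
    obtain ⟨g, hg⟩ := Triangle.coyoneda_exact₂ _ hT f h0
    haveI : IsLE ((t.truncLT b).obj L) (a + n - 1) := t.isLE_truncLT_obj L b (a + n - 1) (by omega)
    haveI : IsGE ((t.truncLT b).obj L) a := (isGE_iff _ _).2 fun i hi => by
      have h1 := DCohLib.isIso_homology_truncLTι L b i (by omega)
      exact (isZero_of_isGE L a i hi).of_iso
        (@asIso _ _ _ _ ((homologyFunctor C i).map ((t.truncLTι b).app L)) h1)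
    have hg0 : g = 0 := by
      refine ih a ((t.truncLT b).obj L) (fun i A hi hi' e g => ?_) _
      have h1 := DCohLib.isIso_homology_truncLTι L b i (by omega)
      exact h i A hi (by omega)
        (e ≪≫ @asIso _ _ _ _ ((homologyFunctor C i).map ((t.truncLTι b).app L)) h1) g
    rw [hg, hg0]
    exact zero_comp

/-- Morphisms between single objects vanish beyond the injective dimension. -/
theorem single_eq_zero {A B : C} (d : ℕ) [HasInjectiveDimensionLT B (d + 1)] (p q : ℤ) (h : (d : ℤ) < p - q)
    (f : (singleFunctor C p).obj A ⟶ (singleFunctor C q).obj B) : f = 0 := by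
  letI := HasExt.standard C
  obtain ⟨n, hn⟩ := Int.eq_ofNat_of_zero_le (a := p - q) (by omega)
  let eA := ((singleFunctors C).shiftIso p 0 p (add_zero p)).app A
  let eB := ((singleFunctors C).shiftIso p (-(n : ℤ)) q (by omega)).app B
  let eB' := ((singleFunctors C).shiftIso (n : ℤ) (-(n : ℤ)) 0 (by omega)).app B
  let φ : ShiftedHom ((singleFunctor C 0).obj A) ((singleFunctor C 0).obj B) (n : ℤ) :=
    eA.inv ≫ f⟦p⟧' ≫ eB.hom ≫ eB'.inv
  have hφ : φ = 0 := by
    haveI := HasInjectiveDimensionLT.subsingleton B (d + 1) n (by omega) A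
    haveI := (Abelian.Ext.homEquiv (C := C) (X := A) (Y := B) (n := n)).symm.subsingleton
    exact Subsingleton.elim _ _
  apply (shiftFunctor (DerivedCategory C) p).map_injective
  rw [Functor.map_zero, ← cancel_epi eA.inv, ← cancel_mono (eB.hom ≫ eB'.inv), comp_zero, zero_comp,
    Category.assoc]
  exact hφ

end Groth.Agent.InjDimLib
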